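import Mathlib.RingTheory.MvPowerSeries.Basic
import Mathlib.RingTheory.MvPowerSeries.Order
import Mathlib.RingTheory.Ideal.Operations

/-!
# Substitutions and filtrations

`div j f` gives `f = C f₀ + Σ X_j · div j f`; `Filt` is a filtration by ideals; algebra maps out of
power series sending the variables into step one respect orders and are Lipschitz.
-/

set_option autoImplicit false

universe u v

open MvPowerSeries Finset

noncomputable section

namespace Groth.Agent.QuadMorse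

variable {A : Type u} [CommRing A] {n : ℕ}

/-- the part of `f` whose least variable is `x_j`, divided by `x_j` -/
def div (j : Fin n) (f : MvPowerSeries (Fin n) A) : MvPowerSeries (Fin n) A :=
  fun e => if ∀ i < j, e i = 0 then coeff (e + Finsupp.single j 1) f else 0

theorem coeff_div (j : Fin n) (f : MvPowerSeries (Fin n) A) (e : Fin n →₀ ℕ) :
    coeff e (div j f) = if ∀ i < j, e i = 0 then coeff (e + Finsupp.single j 1) f else 0 := rfl

theorem coeff_X_mul' (j : Fin n) (g : MvPowerSeries (Fin n) A) (e : Fin n →₀ ℕ) :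
    coeff e (X j * g) = if 1 ≤ e j then coeff (e - Finsupp.single j 1) g else 0 := by
  classical
  rw [X_def, coeff_monomial_mul, one_mul]
  simp only [Finsupp.single_le_iff]

theorem decomp (f : MvPowerSeries (Fin n) A) :
    f = C (constantCoeff f) + ∑ j, X j * div j f := by
  classical
  ext e
  rw [map_add, map_sum, coeff_C]
  simp only [coeff_X_mul', coeff_div]
  by_cases he : e = 0
  · subst he
    simp
  rw [if_neg he, zero_add]
  obtain ⟨i, hi⟩ : ∃ i, e i ≠ 0 := by
    by_contra h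
    push_neg at h
    exact he (Finsupp.ext h)
  let s := Finset.univ.filter fun i => e i ≠ 0
  have hs : s.Nonempty := ⟨i, by simp [s, hi]⟩
  let j₀ := s.min' hs
  have hj₀ : e j₀ ≠ 0 := (Finset.mem_filter.1 (s.min'_mem hs)).2
  have hlt : ∀ k < j₀, e k = 0 := fun k hk => by
    by_contra h
    exact not_lt.2 (s.min'_le k (by simp [s, h])) hk
  rw [Finset.sum_eq_single j₀]
  · rw [if_pos (Nat.one_le_iff_ne_zero.2 hj₀), if_pos, tsub_add_cancel_of_le]
    · simpa [Finsupp.single_le_iff] using Nat.one_le_iff_ne_zero.2 hj₀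
    · intro k hk
      simp [hlt k hk]
  · intro j _ hj
    by_cases h1 : 1 ≤ e j
    · rw [if_pos h1, if_neg]
      intro h
      have hle : j₀ ≤ j := s.min'_le j (by simp [s]; omega)
      have := h j₀ (lt_of_le_of_ne hle hj.symm)
      simp [Finsupp.single_eq_of_ne' (Ne.symm hj.symm), hj₀] at this
    · rw [if_neg h1]
  · simp

/-- all coefficients below degree `k` vanish -/
def OrdGE (k : ℕ) (f : MvPowerSeries (Fin n) A) : Prop := ∀ e, Finsupp.degree e < k → coeff e f = 0

theorem degree_single_add (j : Fin n) (e : Fin n →₀ ℕ) :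
    Finsupp.degree (e + Finsupp.single j 1) = Finsupp.degree e + 1 := by
  simp

theorem OrdGE.div {k : ℕ} {f : MvPowerSeries (Fin n) A} (h : OrdGE (k + 1) f) (j : Fin n) :
    OrdGE k (div j f) := fun e he => by
  rw [coeff_div]
  split_ifs
  · exact h _ (by rw [degree_single_add]; omega)
  · rfl

theorem OrdGE.constantCoeff {k : ℕ} {f : MvPowerSeries (Fin n) A} (h : OrdGE (k + 1) f) :
    MvPowerSeries.constantCoeff f = 0 := by
  rw [← coeff_zero_eq_constantCoeff_apply]
  exact h 0 (by simp)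

theorem OrdGE.eq_sum {k : ℕ} {f : MvPowerSeries (Fin n) A} (h : OrdGE (k + 1) f) :
    f = ∑ j, X j * QuadMorse.div j f := by
  conv_lhs => rw [decomp f, h.constantCoeff, map_zero, zero_add]

theorem OrdGE.mono {k l : ℕ} {f : MvPowerSeries (Fin n) A} (h : OrdGE k f) (hl : l ≤ k) :
    OrdGE l f := fun e he => h e (lt_of_lt_of_le he hl)

/-- a multiplicative filtration by ideals -/
structure Filt (T : Type v) [CommRing T] where
  I : ℕ → Ideal T
  zero : I 0 = ⊤
  anti : Antitone I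
  mul : ∀ {i j : ℕ} {x y : T}, x ∈ I i → y ∈ I j → x * y ∈ I (i + j)
  /-- complete -/
  complete : ∀ u : ℕ → T, (∀ k, u (k + 1) - u k ∈ I k) → ∃ L, ∀ k, L - u k ∈ I k
  sep : ∀ x : T, (∀ k, x ∈ I k) → x = 0

variable {T : Type v} [CommRing T] (Φ : Filt T)

theorem Filt.mul_left {k : ℕ} (x : T) {y : T} (hy : y ∈ Φ.I k) : x * y ∈ Φ.I k :=
  (Φ.I k).mul_mem_left x hy

theorem Filt.mem_zero (x : T) : x ∈ Φ.I 0 := Φ.zero ▸ Submodule.mem_top

variable [Algebra A T] (φ ψ : MvPowerSeries (Fin n) A →ₐ[A] T)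

omit φ ψ in
theorem map_C (φ : MvPowerSeries (Fin n) A →ₐ[A] T) (c : A) : φ (C c) = algebraMap A T c := by
  rw [← φ.commutes c]
  rfl

theorem map_mem (hφ : ∀ j, φ (X j) ∈ Φ.I 1) : ∀ (k : ℕ) (f : MvPowerSeries (Fin n) A), OrdGE k f →
    φ f ∈ Φ.I k
  | 0, f, _ => Φ.mem_zero _
  | k + 1, f, h => by
    rw [h.eq_sum, map_sum]
    refine Submodule.sum_mem _ fun j _ => ?_
    rw [map_mul, add_comm]
    exact Φ.mul (hφ j) (map_mem hφ k _ (h.div j))

theorem sub_mem_min (hψ : ∀ j, ψ (X j) ∈ Φ.I 1) {N : ℕ} (hd : ∀ j, φ (X j) - ψ (X j) ∈ Φ.I N) :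
    ∀ (k : ℕ) (f : MvPowerSeries (Fin n) A), φ f - ψ f ∈ Φ.I (min N k)
  | 0, f => by rw [Nat.min_zero]; exact Φ.mem_zero _
  | k + 1, f => by
    rw [decomp f]
    rw [map_add, map_add, map_C, map_C, add_sub_add_left_eq_sub, map_sum, map_sum,
      ← Finset.sum_sub_distrib]
    refine Submodule.sum_mem _ fun j _ => ?_
    rw [map_mul, map_mul, show φ (X j) * φ (div j f) - ψ (X j) * ψ (div j f) =
      (φ (X j) - ψ (X j)) * φ (div j f) + ψ (X j) * (φ (div j f) - ψ (div j f)) by ring]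
    exact add_mem (Φ.anti (min_le_left _ _) ((Φ.I N).mul_mem_right _ (hd j)))
      (Φ.anti (by omega) (Φ.mul (hψ j) (sub_mem_min hψ hd k _)))

theorem lip (hφ : ∀ j, φ (X j) ∈ Φ.I 1) (hψ : ∀ j, ψ (X j) ∈ Φ.I 1) {N : ℕ}
    (hd : ∀ j, φ (X j) - ψ (X j) ∈ Φ.I N) :
    ∀ (r : ℕ) (f : MvPowerSeries (Fin n) A), OrdGE (r + 1) f → φ f - ψ f ∈ Φ.I (N + r)
  | 0, f, _ => by simpa using sub_mem_min Φ φ ψ hψ hd N f
  | r + 1, f, h => by
    rw [h.eq_sum, map_sum, map_sum, ← Finset.sum_sub_distrib]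
    refine Submodule.sum_mem _ fun j _ => ?_
    rw [map_mul, map_mul, show φ (X j) * φ (div j f) - ψ (X j) * ψ (div j f) =
      (φ (X j) - ψ (X j)) * φ (div j f) + ψ (X j) * (φ (div j f) - ψ (div j f)) by ring]
    exact add_mem (Φ.mul (hd j) (map_mem Φ φ hφ _ _ (h.div j)))
      (Φ.anti (by omega) (Φ.mul (hψ j) (lip hφ hψ hd r _ (h.div j))))

omit φ ψ in
/-- fixed points of contractions -/
theorem exists_fixed {m : ℕ} (Tm : (Fin n → T) → (Fin n → T))
    (hmap : ∀ h, (∀ i, h i ∈ Φ.I m) → ∀ i, Tm h i ∈ Φ.I m)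
    (hc : ∀ N h h', m ≤ N → (∀ i, h i ∈ Φ.I m) → (∀ i, h' i ∈ Φ.I m) →
      (∀ i, h i - h' i ∈ Φ.I N) → ∀ i, Tm h i - Tm h' i ∈ Φ.I (N + 1)) :
    ∃ h, (∀ i, h i ∈ Φ.I m) ∧ Tm h = h := by
  let u : ℕ → Fin n → T := fun k => Tm^[k] 0
  have hu : ∀ k i, u k i ∈ Φ.I m := fun k => by
    induction k with
    | zero => exact fun i => (Φ.I m).zero_mem
    | succ k ih =>
      intro i
      rw [show u (k + 1) = Tm (u k) from Function.iterate_succ_apply' Tm k 0]
      exact hmap _ ih i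
  have hd : ∀ k i, u (k + 1) i - u k i ∈ Φ.I (m + k) := fun k => by
    induction k with
    | zero => exact fun i => sub_mem (hu 1 i) (hu 0 i)
    | succ k ih =>
      intro i
      rw [show u (k + 1 + 1) = Tm (u (k + 1)) from Function.iterate_succ_apply' Tm (k + 1) 0]
      nth_rewrite 2 [show u (k + 1) = Tm (u k) from Function.iterate_succ_apply' Tm k 0]
      exact hc (m + k) _ _ (by omega) (hu _) (hu _) ih i
  choose L hL using fun i => Φ.complete (fun k => u k i) fun k => Φ.anti (by omega) (hd k i)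
  have hLm : ∀ i, L i ∈ Φ.I m := fun i => by
    have := add_mem (hL i m) (hu m i)
    rwa [sub_add_cancel] at this
  refine ⟨L, hLm, funext fun i => sub_eq_zero.1 (Φ.sep _ fun k => ?_)⟩
  have h1 := hc (max m k) L (u (max m k)) (le_max_left _ _) hLm (hu _) (fun i => hL i _) i
  rw [← Function.iterate_succ_apply' Tm (max m k) 0] at h1
  have h2 := hL i (max m k + 1)
  rw [show Tm L i - L i = (Tm L i - u (max m k + 1) i) - (L i - u (max m k + 1) i) by ring]
  exact sub_mem (Φ.anti (by omega) h1) (Φ.anti (by omega) h2)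

end Groth.Agent.QuadMorse
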