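import Groth.Agent.QuadMorse.Filt
import Groth.Prelude.Def_QuadSing
import Mathlib.RingTheory.MvPowerSeries.Substitution
import Mathlib.LinearAlgebra.Matrix.NonsingularInverse
import Mathlib.RingTheory.Ideal.Quotient.Operations

/-!
# Normal form of power series with non-degenerate quadratic part
-/

set_option autoImplicit false

universe u v

open MvPowerSeries Finset Matrix

noncomputable section

namespace Groth.Agent.QuadMorse

variable {A : Type u} [CommRing A] {n : ℕ}

section Quad

variable {T : Type v} [CommRing T] [Algebra A T]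

/-- `Q` on an algebra -/
def quadT (q : Fin n → Fin n → A) (v : Fin n → T) : T :=
  ∑ i, ∑ j, if i ≤ j then algebraMap A T (q i j) * v i * v j else 0

/-- the gradient of `Q` -/
def gradT (q : Fin n → Fin n → A) (v : Fin n → T) (i : Fin n) : T :=
  ∑ j, algebraMap A T (VanCyc.polarMatrix q i j) * v j

theorem aeval_quadPoly (q : Fin n → Fin n → A) (v : Fin n → T) :
    MvPolynomial.aeval v (VanCyc.quadPoly q) = quadT q v := by
  simp only [VanCyc.quadPoly, quadT, map_sum, apply_ite (MvPolynomial.aeval v), map_mul,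
    MvPolynomial.aeval_C, MvPolynomial.aeval_X, map_zero]

theorem quadT_add (q : Fin n → Fin n → A) (v w : Fin n → T) :
    quadT q (v + w) = quadT q v + ∑ i, w i * gradT q v i + quadT q w := by
  classical
  have key : ∀ i j : Fin n, algebraMap A T (VanCyc.polarMatrix q i j) =
      (if i ≤ j then algebraMap A T (q i j) else 0) + if j ≤ i then algebraMap A T (q j i) else 0 := by
    intro i j
    rcases lt_trichotomy i j with h | h | h
    · simp [VanCyc.polarMatrix, h.ne, h, h.le, not_le.2 h]
    · subst h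
      simp [VanCyc.polarMatrix, two_mul, ← map_add]
    · simp [VanCyc.polarMatrix, h.ne', not_lt.2 h.le, h.le, not_le.2 h]
  have e : ∀ i j : Fin n, (if i ≤ j then algebraMap A T (q i j) * (v i + w i) * (v j + w j) else 0) =
      (if i ≤ j then algebraMap A T (q i j) * v i * v j else 0) +
      ((if i ≤ j then algebraMap A T (q i j) else 0) * (w i * v j) +
        (if i ≤ j then algebraMap A T (q i j) else 0) * (v i * w j)) +
      (if i ≤ j then algebraMap A T (q i j) * w i * w j else 0) := by
    intro i j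
    split_ifs <;> ring
  simp only [quadT, Pi.add_apply, e]
  simp only [Finset.sum_add_distrib, gradT, key, add_mul, mul_add, Finset.mul_sum]
  rw [Finset.sum_comm (f := fun i j => (if i ≤ j then algebraMap A T (q i j) else 0) * (v i * w j))]
  simp only [mul_comm, mul_left_comm, mul_assoc]

variable (Φ : Filt T)

theorem gradT_mem (q : Fin n → Fin n → A) {k : ℕ} {v : Fin n → T} (hv : ∀ i, v i ∈ Φ.I k)
    (i : Fin n) : gradT q v i ∈ Φ.I k :=
  Submodule.sum_mem _ fun j _ => Φ.mul_left _ (hv j)

theorem gradT_sub (q : Fin n → Fin n → A) (v w : Fin n → T) (i : Fin n) :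
    gradT q v i - gradT q w i = gradT q (v - w) i := by
  simp only [gradT, Pi.sub_apply, mul_sub, Finset.sum_sub_distrib]

theorem quadT_mem (q : Fin n → Fin n → A) {k : ℕ} {v : Fin n → T} (hv : ∀ i, v i ∈ Φ.I k) :
    quadT q v ∈ Φ.I (k + k) :=
  Submodule.sum_mem _ fun i _ => Submodule.sum_mem _ fun j _ => by
    split_ifs
    · exact Φ.mul (Φ.mul_left _ (hv i)) (hv j)
    · exact zero_mem _

theorem quadT_sub_mem (q : Fin n → Fin n → A) {k N : ℕ} {v w : Fin n → T} (hv : ∀ i, v i ∈ Φ.I k)
    (hw : ∀ i, w i ∈ Φ.I k) (hd : ∀ i, v i - w i ∈ Φ.I N) :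
    quadT q v - quadT q w ∈ Φ.I (N + k) := by
  simp only [quadT, ← Finset.sum_sub_distrib]
  refine Submodule.sum_mem _ fun i _ => Submodule.sum_mem _ fun j _ => ?_
  split_ifs
  · rw [show algebraMap A T (q i j) * v i * v j - algebraMap A T (q i j) * w i * w j =
      algebraMap A T (q i j) * ((v i - w i) * v j + (v j - w j) * w i) by ring]
    exact Φ.mul_left _ (add_mem (Φ.mul (hd i) (hv j)) (Φ.mul (hd j) (hw i)))
  · simp

end Quad

/-- power series filtered by the order -/
def ordFilt (A : Type u) [CommRing A] (n : ℕ) : Filt (MvPowerSeries (Fin n) A) where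
  I k :=
    { carrier := {f | OrdGE k f}
      add_mem' := fun ha hb e he => by rw [map_add, ha e he, hb e he, add_zero]
      zero_mem' := fun e _ => map_zero _
      smul_mem' := fun c x hx e he => by
        classical
        rw [smul_eq_mul, coeff_mul]
        refine Finset.sum_eq_zero fun p hp => ?_
        rw [hx p.2 (lt_of_le_of_lt ?_ he), mul_zero]
        rw [← Finset.mem_antidiagonal.1 hp, map_add]
        exact Nat.le_add_left _ _ }
  zero := eq_top_iff.2 fun f _ e he => absurd he (Nat.not_lt_zero _)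
  anti := fun k l hkl f hf => hf.mono hkl
  mul := fun {i j x y} hx hy e he => by
    classical
    rw [coeff_mul]
    refine Finset.sum_eq_zero fun p hp => ?_
    have h := congrArg Finsupp.degree (Finset.mem_antidiagonal.1 hp)
    rw [map_add] at h
    by_cases h1 : Finsupp.degree p.1 < i
    · rw [hx p.1 h1, zero_mul]
    · rw [hy p.2 (by omega), mul_zero]
  complete u hu := by
    refine ⟨fun e => coeff e (u (Finsupp.degree e + 1)), fun k e he => ?_⟩
    have hstab : ∀ d, coeff e (u (Finsupp.degree e + 1 + d)) = coeff e (u (Finsupp.degree e + 1)) := by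
      intro d
      induction d with
      | zero => rfl
      | succ d ih =>
        rw [← ih]
        exact sub_eq_zero.1 ((map_sub _ _ _).symm.trans (hu (Finsupp.degree e + 1 + d) e (by omega)))
    rw [map_sub]
    change coeff e (u (Finsupp.degree e + 1)) - _ = 0
    obtain ⟨d, rfl⟩ : ∃ d, k = Finsupp.degree e + 1 + d := ⟨k - (Finsupp.degree e + 1), by omega⟩
    rw [hstab, sub_self]
  sep x hx := MvPowerSeries.ext fun e => hx (Finsupp.degree e + 1) e (by omega)

theorem mem_ordFilt {k : ℕ} {f : MvPowerSeries (Fin n) A} :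
    f ∈ (ordFilt A n).I k ↔ OrdGE k f := Iff.rfl

theorem X_mem (i : Fin n) : X i ∈ (ordFilt A n).I 1 := fun e he => by
  classical
  rw [coeff_X, if_neg]
  rintro rfl
  simp at he

section Shift

variable {h : Fin n → MvPowerSeries (Fin n) A}

theorem hasSubst_shift (hh : ∀ i, h i ∈ (ordFilt A n).I 1) : HasSubst fun i => X i + h i :=
  hasSubst_of_constantCoeff_zero fun i => by
    rw [map_add, constantCoeff_X, zero_add]
    exact OrdGE.constantCoeff (k := 0) (hh i)

open Classical in
/-- `x ↦ x + h` -/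
def shiftHom (h : Fin n → MvPowerSeries (Fin n) A) :
    MvPowerSeries (Fin n) A →ₐ[A] MvPowerSeries (Fin n) A :=
  if hs : HasSubst fun i => X i + h i then substAlgHom hs else AlgHom.id A _

theorem shiftHom_apply (hh : ∀ i, h i ∈ (ordFilt A n).I 1) (f : MvPowerSeries (Fin n) A) :
    shiftHom h f = subst (fun i => X i + h i) f := by
  rw [shiftHom, dif_pos (hasSubst_shift hh), substAlgHom_apply]

theorem shiftHom_X (hh : ∀ i, h i ∈ (ordFilt A n).I 1) (j : Fin n) :
    shiftHom h (X j) = X j + h j := by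
  rw [shiftHom_apply hh, subst_X (hasSubst_shift hh)]

theorem shiftHom_X_mem (hh : ∀ i, h i ∈ (ordFilt A n).I 1) (j : Fin n) :
    shiftHom h (X j) ∈ (ordFilt A n).I 1 := by
  rw [shiftHom_X hh]
  exact add_mem (X_mem j) (hh j)

theorem shiftHom_lip {h' : Fin n → MvPowerSeries (Fin n) A} (hh : ∀ i, h i ∈ (ordFilt A n).I 1)
    (hh' : ∀ i, h' i ∈ (ordFilt A n).I 1) {N : ℕ} (hd : ∀ i, h i - h' i ∈ (ordFilt A n).I N)
    (r : ℕ) {f : MvPowerSeries (Fin n) A} (hf : OrdGE (r + 1) f) :
    shiftHom h f - shiftHom h' f ∈ (ordFilt A n).I (N + r) :=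
  lip (ordFilt A n) (shiftHom h) (shiftHom h') (shiftHom_X_mem hh) (shiftHom_X_mem hh')
    (fun j => by rw [shiftHom_X hh, shiftHom_X hh', add_sub_add_left_eq_sub]; exact hd j) r f hf

/-- a shift by terms of order at least two has a left inverse of the same shape -/
theorem exists_left_inverse (hh : ∀ i, h i ∈ (ordFilt A n).I 2) :
    ∃ g : Fin n → MvPowerSeries (Fin n) A, (∀ i, g i ∈ (ordFilt A n).I 2) ∧
      ∀ f, shiftHom g (shiftHom h f) = f := by
  have le : (ordFilt A n).I 2 ≤ (ordFilt A n).I 1 := (ordFilt A n).anti (by omega)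
  obtain ⟨g, hg, hfix⟩ := exists_fixed (ordFilt A n) (m := 2) (fun g i => -shiftHom g (h i))
    (fun g hg i => neg_mem (map_mem (ordFilt A n) _ (shiftHom_X_mem fun i => le (hg i)) 2 _ (hh i)))
    (fun N g g' _ hg hg' hd i => by
      rw [show -shiftHom g (h i) - -shiftHom g' (h i) = -(shiftHom g (h i) - shiftHom g' (h i)) by ring]
      exact neg_mem (shiftHom_lip (fun i => le (hg i)) (fun i => le (hg' i)) hd 1 (hh i)))
  refine ⟨g, hg, fun f => ?_⟩
  rw [shiftHom_apply fun i => le (hh i), shiftHom_apply fun i => le (hg i),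
    subst_comp_subst_apply (hasSubst_shift fun i => le (hh i)) (hasSubst_shift fun i => le (hg i))]
  have : (fun s => subst (fun i => X i + g i) (X s + h s)) = X := funext fun s => by
    rw [← shiftHom_apply fun i => le (hg i), map_add, shiftHom_X fun i => le (hg i)]
    have := congrFun hfix s
    linear_combination -this
  rw [this, subst_self]
  rfl

/-- a shift by terms of order at least two is an automorphism -/
theorem exists_equiv (hh : ∀ i, h i ∈ (ordFilt A n).I 2) :
    ∃ e : MvPowerSeries (Fin n) A ≃ₐ[A] MvPowerSeries (Fin n) A, ∀ f, e f = shiftHom h f := by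
  obtain ⟨g, hg, hgh⟩ := exists_left_inverse hh
  obtain ⟨k, _, hkg⟩ := exists_left_inverse hg
  have : ∀ f, shiftHom h f = shiftHom k f := fun f => by
    conv_rhs => rw [← hgh f, hkg]
  exact ⟨AlgEquiv.ofAlgHom (shiftHom h) (shiftHom g)
    (AlgHom.ext fun f => (this _).trans (hkg f)) (AlgHom.ext hgh), fun f => rfl⟩

end Shift

variable {q : Fin n → Fin n → A}

/-- division by the partial derivatives of `Q` -/
def gdiv (q : Fin n → Fin n → A) (i : Fin n) (G : MvPowerSeries (Fin n) A) :
    MvPowerSeries (Fin n) A :=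
  ∑ j, algebraMap A (MvPowerSeries (Fin n) A) ((VanCyc.polarMatrix q : Matrix (Fin n) (Fin n) A)⁻¹ j i) * div j G

theorem gdiv_mem {k : ℕ} {G : MvPowerSeries (Fin n) A} (hG : G ∈ (ordFilt A n).I (k + 1)) (i : Fin n) :
    gdiv q i G ∈ (ordFilt A n).I k :=
  Submodule.sum_mem _ fun j _ => Filt.mul_left _ _ (OrdGE.div hG j)

theorem gdiv_sub (i : Fin n) (G G' : MvPowerSeries (Fin n) A) :
    gdiv q i G - gdiv q i G' = gdiv q i (G - G') := by
  simp only [gdiv, ← Finset.sum_sub_distrib, ← mul_sub]
  refine Finset.sum_congr rfl fun j _ => ?_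
  congr 1
  ext e
  simp only [map_sub, coeff_div]
  split_ifs <;> simp

theorem sum_gradT_gdiv (hq : VanCyc.QuadNondeg q) {G : MvPowerSeries (Fin n) A} (hG : OrdGE 1 G) :
    ∑ i, gradT q (X : Fin n → MvPowerSeries (Fin n) A) i * gdiv q i G = G := by
  conv_rhs => rw [OrdGE.eq_sum (k := 0) hG]
  simp only [gradT, gdiv, Finset.sum_mul, Finset.mul_sum]
  rw [Finset.sum_comm]
  refine Finset.sum_congr rfl fun k _ => ?_
  rw [Finset.sum_comm]
  have hMM : (VanCyc.polarMatrix q : Matrix (Fin n) (Fin n) A)⁻¹ * VanCyc.polarMatrix q = 1 :=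
    Matrix.nonsing_inv_mul _ hq
  calc _ = ∑ j, algebraMap A (MvPowerSeries (Fin n) A)
          (((VanCyc.polarMatrix q : Matrix (Fin n) (Fin n) A)⁻¹ * VanCyc.polarMatrix q) k j) * (X j * div k G) := by
        refine Finset.sum_congr rfl fun j _ => ?_
        rw [Matrix.mul_apply, map_sum, Finset.sum_mul]
        refine Finset.sum_congr rfl fun i _ => ?_
        rw [map_mul]
        ring
    _ = _ := by
        rw [hMM, Finset.sum_eq_single k]
        · simp
        · intro j _ hj
          simp [Matrix.one_apply_ne hj.symm]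
        · simp

theorem coe_eq (a : A) :
    ((VanCyc.quadPoly q + MvPolynomial.C a : MvPolynomial (Fin n) A) : MvPowerSeries (Fin n) A) =
      quadT q (X : Fin n → MvPowerSeries (Fin n) A) + algebraMap A _ a := by
  rw [← aeval_quadPoly, MvPolynomial.coe_add, MvPolynomial.coe_C]
  congr 1
  have : (MvPolynomial.coeToMvPowerSeries.algHom A :
        MvPolynomial (Fin n) A →ₐ[A] MvPowerSeries (Fin n) A) =
      MvPolynomial.aeval (X : Fin n → MvPowerSeries (Fin n) A) :=
    MvPolynomial.algHom_ext fun i => by simp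
  rw [← this]
  simp

/-- the coordinate change -/
theorem exists_shift (hq : VanCyc.QuadNondeg q) {m : ℕ} (hm : 2 ≤ m) (a : A)
    {R : MvPowerSeries (Fin n) A} (hR : OrdGE (m + 1) R) :
    ∃ h : Fin n → MvPowerSeries (Fin n) A, (∀ i, h i ∈ (ordFilt A n).I m) ∧
      shiftHom h (quadT q (X : Fin n → MvPowerSeries (Fin n) A) + algebraMap A _ a + R) =
        quadT q (X : Fin n → MvPowerSeries (Fin n) A) + algebraMap A _ a := by
  let Φ := ordFilt A n
  let Ri := fun i => gdiv q i R
  have hRi : ∀ i, Ri i ∈ Φ.I m := fun i => gdiv_mem hR i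
  have hRi2 : ∀ i, OrdGE 2 (Ri i) := fun i => OrdGE.mono (hRi i) hm
  let G := fun h : Fin n → MvPowerSeries (Fin n) A =>
    quadT q h + ∑ k, gradT q h k * shiftHom h (Ri k)
  have le : ∀ {h : Fin n → MvPowerSeries (Fin n) A}, (∀ i, h i ∈ Φ.I m) → ∀ i, h i ∈ Φ.I 1 :=
    fun hh i => Φ.anti (show 1 ≤ m by omega) (hh i)
  have hsR : ∀ {h}, (∀ i, h i ∈ Φ.I m) → ∀ i, shiftHom h (Ri i) ∈ Φ.I m := fun hh i =>
    map_mem Φ _ (shiftHom_X_mem (le hh)) m _ (hRi i)
  have hG : ∀ {h}, (∀ i, h i ∈ Φ.I m) → G h ∈ Φ.I (m + m) := fun hh =>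
    add_mem (quadT_mem Φ q hh) (Submodule.sum_mem _ fun k _ => Φ.mul (gradT_mem Φ q hh k) (hsR hh k))
  obtain ⟨h, hh, hfix⟩ := exists_fixed Φ (m := m) (fun h i => -(shiftHom h (Ri i) + gdiv q i (G h)))
    (fun h hh i => neg_mem (add_mem (hsR hh i)
      (Φ.anti (show m ≤ m + m - 1 by omega) (gdiv_mem (k := m + m - 1)
        (by rw [show m + m - 1 + 1 = m + m by omega]; exact hG hh) i))))
    (fun N h h' hN hh hh' hd i => by
      rw [show -(shiftHom h (Ri i) + gdiv q i (G h)) - -(shiftHom h' (Ri i) + gdiv q i (G h')) =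
        -((shiftHom h (Ri i) - shiftHom h' (Ri i)) + (gdiv q i (G h) - gdiv q i (G h'))) by ring,
        gdiv_sub]
      refine neg_mem (add_mem (shiftHom_lip (le hh) (le hh') hd 1 (hRi2 i)) (gdiv_mem ?_ i))
      simp only [G]
      rw [add_sub_add_comm, ← Finset.sum_sub_distrib]
      refine add_mem (Φ.anti (by omega) (quadT_sub_mem Φ q hh hh' hd))
        (Submodule.sum_mem _ fun k _ => ?_)
      rw [show gradT q h k * shiftHom h (Ri k) - gradT q h' k * shiftHom h' (Ri k) =
        (gradT q h k - gradT q h' k) * shiftHom h (Ri k) +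
          gradT q h' k * (shiftHom h (Ri k) - shiftHom h' (Ri k)) by ring, gradT_sub]
      exact add_mem (Φ.anti (by omega) (Φ.mul (gradT_mem Φ q hd k) (hsR hh k)))
        (Φ.anti (by omega) (Φ.mul (gradT_mem Φ q hh' k) (shiftHom_lip (le hh) (le hh') hd 1 (hRi2 k)))))
  refine ⟨h, hh, ?_⟩
  have hX : ∀ j, shiftHom h (X j) = X j + h j := shiftHom_X (le hh)
  have hQ : shiftHom h (quadT q X) = quadT q X + ∑ i, h i * gradT q X i + quadT q h := by
    rw [← quadT_add]
    simp only [quadT, map_sum, apply_ite (shiftHom h), map_mul, AlgHom.commutes, hX, map_zero,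
      Pi.add_apply]
  have hL : ∀ i, shiftHom h (gradT q X i) = gradT q X i + gradT q h i := fun i => by
    simp only [gradT, map_sum, map_mul, AlgHom.commutes, hX, mul_add, Finset.sum_add_distrib]
  have hR1 : ∑ i, gradT q (X : Fin n → MvPowerSeries (Fin n) A) i * Ri i = R :=
    sum_gradT_gdiv hq (hR.mono (by omega))
  have hG1 := sum_gradT_gdiv (q := q) hq (G := G h) (OrdGE.mono (hG hh) (by omega))
  have hh' : ∀ i, h i = -(shiftHom h (Ri i) + gdiv q i (G h)) := fun i => (congrFun hfix i).symm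
  rw [map_add, map_add, AlgHom.commutes, hQ, ← hR1, map_sum]
  simp only [map_mul, hL, add_mul, Finset.sum_add_distrib]
  have : ∑ i, h i * gradT q (X : Fin n → MvPowerSeries (Fin n) A) i +
      ∑ i, gradT q (X : Fin n → MvPowerSeries (Fin n) A) i * shiftHom h (Ri i) = -G h := by
    rw [← Finset.sum_add_distrib, ← hG1, ← Finset.sum_neg_distrib]
    refine Finset.sum_congr rfl fun i _ => ?_
    conv_lhs => arg 1; rw [hh' i]
    ring
  linear_combination this

theorem nonempty_quotientEquiv {h : Fin n → MvPowerSeries (Fin n) A}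
    (hh : ∀ i, h i ∈ (ordFilt A n).I 2) {F G : MvPowerSeries (Fin n) A} (hFG : shiftHom h F = G) :
    Nonempty ((MvPowerSeries (Fin n) A ⧸ Ideal.span {F}) ≃ₐ[A]
      (MvPowerSeries (Fin n) A ⧸ Ideal.span {G})) := by
  obtain ⟨e, he⟩ := exists_equiv hh
  refine ⟨Ideal.quotientEquivAlg _ _ e ?_⟩
  rw [Ideal.map_span, Set.image_singleton]
  congr 2
  exact ((he F).trans hFG).symm

end Groth.Agent.QuadMorse
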