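import Groth.Agent.QuadMorse.Normal
import Mathlib.RingTheory.MvPowerSeries.Evaluation
import Mathlib.RingTheory.MvPowerSeries.LinearTopology
import Mathlib.RingTheory.AdicCompletion.Topology
import Mathlib.RingTheory.LocalRing.MaximalIdeal.Basic

/-!
# Translations `x ↦ x + c` over an adically complete ring
-/

set_option autoImplicit false

universe u

open MvPowerSeries MvPowerSeries.WithPiTopology Finset Matrix Filter

noncomputable section

namespace Groth.Agent.QuadMorse

variable {A : Type u} [CommRing A] {n : ℕ}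

/-- powers of an ideal for which `A` is complete -/
def adicFilt (M : Ideal A) [IsAdicComplete M A] : Filt A where
  I k := M ^ k
  zero := by rw [pow_zero, Ideal.one_eq_top]
  anti := fun k l h => Ideal.pow_le_pow_right h
  mul := fun hx hy => pow_add M _ _ ▸ Ideal.mul_mem_mul hx hy
  complete u hu := by
    have hh : ∀ {k l : ℕ}, k ≤ l → u l - u k ∈ M ^ k := by
      intro k l hkl
      induction l, hkl using Nat.le_induction with
      | base => simp
      | succ l hkl ih =>
        rw [← sub_add_sub_cancel _ (u l)]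
        exact add_mem (Ideal.pow_le_pow_right hkl (hu l)) ih
    obtain ⟨L, hL⟩ := IsPrecomplete.prec (I := M) (M := A) inferInstance (f := u) fun {k l} hkl => by
      rw [smul_eq_mul, Ideal.mul_top, SModEq.sub_mem, ← neg_sub]
      exact neg_mem (hh hkl)
    refine ⟨L, fun k => ?_⟩
    have := hL k
    rw [smul_eq_mul, Ideal.mul_top, SModEq.sub_mem] at this
    rw [← neg_sub]
    exact neg_mem this
  sep x hx := IsHausdorff.haus (I := M) inferInstance x fun k => by
    rw [smul_eq_mul, Ideal.mul_top, SModEq.sub_mem, sub_zero]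
    exact hx k

/-- the filtration by the powers of `(M, x)` -/
def mixFilt (M : Ideal A) [IsAdicComplete M A] (n : ℕ) : Filt (MvPowerSeries (Fin n) A) where
  I k :=
    { carrier := {f | ∀ e, coeff e f ∈ M ^ (k - Finsupp.degree e)}
      add_mem' := fun ha hb e => by rw [map_add]; exact add_mem (ha e) (hb e)
      zero_mem' := fun e => by rw [map_zero]; exact zero_mem _
      smul_mem' := fun c x hx e => by
        classical
        rw [smul_eq_mul, coeff_mul]
        refine Submodule.sum_mem _ fun p hp => Ideal.mul_mem_left _ _ ?_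
        have h := congrArg Finsupp.degree (Finset.mem_antidiagonal.1 hp)
        rw [map_add] at h
        exact Ideal.pow_le_pow_right (by omega) (hx p.2) }
  zero := eq_top_iff.2 fun f _ e => by simp
  anti := fun k l hkl f hf e => Ideal.pow_le_pow_right (by omega) (hf e)
  mul := fun {i j x y} hx hy e => by
    classical
    rw [coeff_mul]
    refine Submodule.sum_mem _ fun p hp => ?_
    have h := congrArg Finsupp.degree (Finset.mem_antidiagonal.1 hp)
    rw [map_add] at h
    refine Ideal.pow_le_pow_right ?_ (pow_add M _ _ ▸ Ideal.mul_mem_mul (hx p.1) (hy p.2))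
    omega
  complete u hu := by
    choose L hL using fun e : Fin n →₀ ℕ =>
      (adicFilt M).complete (fun k => coeff e (u (k + Finsupp.degree e))) fun k => by
        have := hu (k + Finsupp.degree e) e
        rw [map_sub, Nat.add_sub_cancel] at this
        rw [show k + 1 + Finsupp.degree e = k + Finsupp.degree e + 1 by omega]
        exact this
    refine ⟨L, fun k e => ?_⟩
    rw [map_sub]
    change L e - coeff e (u k) ∈ _
    rcases le_total k (Finsupp.degree e) with h | h
    · simp [Nat.sub_eq_zero_of_le h]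
    · have := hL e (k - Finsupp.degree e)
      change _ ∈ M ^ _ at this
      rwa [Nat.sub_add_cancel h] at this
  sep x hx := MvPowerSeries.ext fun e => (adicFilt M).sep _ fun k => by
    have := hx (k + Finsupp.degree e) e
    rw [Nat.add_sub_cancel] at this
    exact this

theorem X_mem_mix {M : Ideal A} [IsAdicComplete M A] (i : Fin n) : X i ∈ (mixFilt M n).I 1 := fun e => by
  classical
  rw [coeff_X]
  split_ifs with h
  · subst h; simp
  · exact zero_mem _

theorem algebraMap_mem_mix {M : Ideal A} [IsAdicComplete M A] {k : ℕ} {x : A} (hx : x ∈ M ^ k) :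
    algebraMap A (MvPowerSeries (Fin n) A) x ∈ (mixFilt M n).I k := fun e => by
  classical
  rw [← c_eq_algebraMap, coeff_C]
  split_ifs with h
  · subst h; simpa using hx
  · exact zero_mem _

section Top

variable [WithIdeal A] [CompleteSpace A] [T2Space A] [IsAdicComplete (WithIdeal.i (R := A)) A]

local notation "𝔪" => (WithIdeal.i (R := A))

theorem hasEval_shiftC {c : Fin n → A} (hc : ∀ i, c i ∈ 𝔪) :
    HasEval fun i => (X i : MvPowerSeries (Fin n) A) + algebraMap A _ (c i) :=
  ⟨fun i => MvPowerSeries.LinearTopology.isTopologicallyNilpotent_of_constantCoeff (by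
      rw [map_add, constantCoeff_X, zero_add, ← c_eq_algebraMap, constantCoeff_C]
      exact WithIdeal.isTopologicallyNilpotent_of_mem (hc i)),
    by simp [cofinite_eq_bot]⟩

open Classical in
/-- `x ↦ x + c` -/
def transl (c : Fin n → A) : MvPowerSeries (Fin n) A →ₐ[A] MvPowerSeries (Fin n) A :=
  if hc : ∀ i, c i ∈ 𝔪 then aeval (hasEval_shiftC hc) else AlgHom.id A _

theorem transl_eq {c : Fin n → A} (hc : ∀ i, c i ∈ 𝔪) : transl c = aeval (hasEval_shiftC hc) := by
  rw [transl, dif_pos hc]

theorem transl_X {c : Fin n → A} (hc : ∀ i, c i ∈ 𝔪) (i : Fin n) :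
    transl c (X i) = X i + algebraMap A _ (c i) := by
  rw [transl_eq hc, ← MvPolynomial.coe_X, aeval_coe, MvPolynomial.aeval_X]
  simp

theorem transl_neg_comp {c : Fin n → A} (hc : ∀ i, c i ∈ 𝔪) :
    (transl (-c)).comp (transl c) = AlgHom.id A (MvPowerSeries (Fin n) A) := by
  have hnc : ∀ i, (-c) i ∈ 𝔪 := fun i => neg_mem (hc i)
  have hcont : Continuous (transl (-c) : MvPowerSeries (Fin n) A → MvPowerSeries (Fin n) A) := by
    rw [transl_eq hnc]
    exact continuous_aeval _
  rw [transl_eq hc, comp_aeval _ hcont, ← aeval_unique (ε := AlgHom.id A (MvPowerSeries (Fin n) A)) continuous_id]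
  congr 1
  funext i
  change transl (-c) (X i + algebraMap A _ (c i)) = X i
  rw [map_add, transl_X hnc, AlgHom.commutes, Pi.neg_apply, map_neg, neg_add_cancel_right]

/-- the translation automorphism -/
def translEquiv {c : Fin n → A} (hc : ∀ i, c i ∈ 𝔪) :
    MvPowerSeries (Fin n) A ≃ₐ[A] MvPowerSeries (Fin n) A :=
  AlgEquiv.ofAlgHom (transl c) (transl (-c))
    (by
      have := transl_neg_comp (c := -c) fun i => neg_mem (hc i)
      rwa [neg_neg] at this)
    (transl_neg_comp hc)

theorem transl_X_mem {c : Fin n → A} (hc : ∀ i, c i ∈ 𝔪) (i : Fin n) :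
    transl c (X i) ∈ (mixFilt 𝔪 n).I 1 := by
  rw [transl_X hc]
  exact add_mem (X_mem_mix i) (algebraMap_mem_mix (by simpa using hc i))

theorem coeff_quadT (q : Fin n → Fin n → A) {a b : Fin n} (hab : a ≤ b) :
    coeff (Finsupp.single a 1 + Finsupp.single b 1) (quadT q (X : Fin n → MvPowerSeries (Fin n) A)) = q a b := by
  classical
  simp only [quadT, map_sum]
  rw [Finset.sum_eq_single a, Finset.sum_eq_single b, if_pos hab]
  · rw [← c_eq_algebraMap, mul_assoc, coeff_C_mul, X_def, X_def, monomial_mul_monomial, coeff_monomial,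
      if_pos rfl, mul_one, mul_one]
  · intro j _ hj
    split_ifs with h
    · rw [← c_eq_algebraMap, mul_assoc, coeff_C_mul, X_def, X_def, monomial_mul_monomial, coeff_monomial,
        if_neg, mul_zero]
      intro he
      exact hj (Finsupp.single_left_injective one_ne_zero (add_left_cancel he)).symm
    · simp
  · simp
  · intro i _ hi
    refine Finset.sum_eq_zero fun j _ => ?_
    split_ifs with h
    · rw [← c_eq_algebraMap, mul_assoc, coeff_C_mul, X_def, X_def, monomial_mul_monomial, coeff_monomial,
        if_neg, mul_zero]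
      intro he
      have h1 := DFunLike.congr_fun he i
      have h2 := DFunLike.congr_fun he a
      simp only [Finsupp.add_apply, Finsupp.single_apply] at h1 h2
      simp only [if_true, if_neg (Ne.symm hi)] at h1
      simp only [if_true, if_neg hi] at h2
      split_ifs at h1 h2 with p1 p2 p3
      all_goals first
        | omega
        | exact hi (le_antisymm (by omega) (by omega))
    · simp
  · simp

theorem coeff_quadT_low (q : Fin n → Fin n → A) {e : Fin n →₀ ℕ} (he : Finsupp.degree e ≤ 1) :
    coeff e (quadT q (X : Fin n → MvPowerSeries (Fin n) A)) = 0 :=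
  (mem_ordFilt.1 (quadT_mem (ordFilt A n) q fun i => X_mem i)) e (by omega)

theorem ordGE_three {f : MvPowerSeries (Fin n) A} (hlin : ∀ i, coeff (Finsupp.single i 1) f = 0)
    (q : Fin n → Fin n → A)
    (hq : ∀ a b, a ≤ b → coeff (Finsupp.single a 1 + Finsupp.single b 1) f = q a b) :
    OrdGE 3 (f - (quadT q (X : Fin n → MvPowerSeries (Fin n) A) +
      algebraMap A _ (constantCoeff f))) := fun e he => by
  classical
  rw [map_sub, map_add, ← c_eq_algebraMap, coeff_C, sub_eq_zero]
  by_cases h0 : e = 0
  · subst h0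
    rw [coeff_quadT_low q (by simp), if_pos rfl, zero_add, coeff_zero_eq_constantCoeff_apply]
  rw [if_neg h0, add_zero]
  have hsplit : ∀ x : Fin n →₀ ℕ, x ≠ 0 → ∃ i y, x = Finsupp.single i 1 + y := fun x hx => by
    obtain ⟨i, hi⟩ : ∃ i, x i ≠ 0 := by
      by_contra h
      push_neg at h
      exact hx (Finsupp.ext h)
    exact ⟨i, x - Finsupp.single i 1, (add_tsub_cancel_of_le
      (by simpa [Finsupp.single_le_iff] using Nat.one_le_iff_ne_zero.2 hi)).symm⟩
  obtain ⟨i, y, rfl⟩ := hsplit e h0
  rw [map_add, Finsupp.degree_single] at he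
  by_cases hy : y = 0
  · subst hy
    rw [add_zero, hlin, coeff_quadT_low q (by simp)]
  obtain ⟨j, z, rfl⟩ := hsplit y hy
  rw [map_add, Finsupp.degree_single] at he
  obtain rfl : z = 0 := (Finsupp.degree_eq_zero_iff z).1 (by omega)
  rw [add_zero]
  rcases le_total i j with h | h
  · rw [hq i j h, coeff_quadT q h]
  · rw [add_comm, hq j i h, coeff_quadT q h]

theorem coeff_X_single (i k : Fin n) :
    coeff (Finsupp.single k 1) (X i : MvPowerSeries (Fin n) A) = if i = k then 1 else 0 := by
  classical
  rw [coeff_X]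
  simp [Finsupp.single_left_inj, eq_comm]

theorem exists_quotientEquiv [IsLocalRing A] (h𝔪 : 𝔪 = IsLocalRing.maximalIdeal A)
    {q : Fin n → Fin n → A} (hq : VanCyc.QuadNondeg q) {a : A} (ha : a ∈ 𝔪) {ℓ : Fin n → A}
    (hℓ : ∀ i, ℓ i ∈ 𝔪) {R : MvPowerSeries (Fin n) A} (hR : OrdGE 3 R) :
    ∃ (a' : A) (q' : Fin n → Fin n → A), a' ∈ 𝔪 ∧ VanCyc.QuadNondeg q' ∧
      Nonempty ((MvPowerSeries (Fin n) A ⧸ Ideal.span {quadT q (X : Fin n → MvPowerSeries (Fin n) A) +
          ∑ i, algebraMap A _ (ℓ i) * X i + algebraMap A _ a + R}) ≃ₐ[A]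
        (MvPowerSeries (Fin n) A ⧸ Ideal.span {quadT q' (X : Fin n → MvPowerSeries (Fin n) A) +
          algebraMap A _ a'})) := by
  classical
  let Φ := mixFilt 𝔪 n
  let Ψ := adicFilt 𝔪
  let δ : Fin n → Fin n →₀ ℕ := fun i => Finsupp.single i 1
  let r : (Fin n → A) → Fin n → A := fun c k => coeff (δ k) (transl c R)
  let Mi : Matrix (Fin n) (Fin n) A := (VanCyc.polarMatrix q : Matrix (Fin n) (Fin n) A)⁻¹
  have mem1 : ∀ {c : Fin n → A}, (∀ i, c i ∈ Ψ.I 1) → ∀ i, c i ∈ 𝔪 := fun hc i => by
    have := hc i
    change _ ∈ 𝔪 ^ 1 at this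
    rwa [pow_one] at this
  have hτR : ∀ {c : Fin n → A}, (∀ i, c i ∈ 𝔪) → transl c R ∈ Φ.I 3 := fun hc =>
    map_mem Φ _ (transl_X_mem hc) 3 R hR
  have hr : ∀ {c : Fin n → A}, (∀ i, c i ∈ 𝔪) → ∀ k, r c k ∈ Ψ.I 2 := fun hc k => by
    have := hτR hc (δ k)
    change _ ∈ 𝔪 ^ 2
    simpa [r, δ] using this
  obtain ⟨c, hc, hfix⟩ := exists_fixed Ψ (m := 1) (fun c i => -∑ k, (ℓ k + r c k) * Mi k i)
    (fun c hc i => neg_mem (Submodule.sum_mem _ fun k _ => Ideal.mul_mem_right _ _
      (add_mem (show ℓ k ∈ 𝔪 ^ 1 by simpa using hℓ k) (Ψ.anti (by omega) (hr (mem1 hc) k)))))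
    (fun N c c' hN hc hc' hd i => by
      rw [show -∑ k, (ℓ k + r c k) * Mi k i - -∑ k, (ℓ k + r c' k) * Mi k i =
        -∑ k, (r c k - r c' k) * Mi k i by
          simp only [sub_mul, add_mul, Finset.sum_sub_distrib, Finset.sum_add_distrib]; ring]
      refine neg_mem (Submodule.sum_mem _ fun k _ => Ideal.mul_mem_right _ _ ?_)
      have := lip Φ (transl c) (transl c') (transl_X_mem (mem1 hc)) (transl_X_mem (mem1 hc'))
        (fun j => by
          rw [transl_X (mem1 hc), transl_X (mem1 hc'), add_sub_add_left_eq_sub, ← map_sub]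
          exact algebraMap_mem_mix (hd j)) 2 R hR (δ k)
      rw [map_sub] at this
      change _ ∈ 𝔪 ^ (N + 1)
      simpa [r, δ] using this)
  have hc' : ∀ i, c i ∈ 𝔪 := mem1 hc
  let F := quadT q (X : Fin n → MvPowerSeries (Fin n) A) +
    ∑ i, algebraMap A _ (ℓ i) * X i + algebraMap A _ a + R
  let cc : Fin n → MvPowerSeries (Fin n) A := fun i => algebraMap A _ (c i)
  have hτ : transl c F = quadT q (X : Fin n → MvPowerSeries (Fin n) A) +
      ∑ i, cc i * gradT q (X : Fin n → MvPowerSeries (Fin n) A) i + quadT q cc +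
      (∑ i, algebraMap A _ (ℓ i) * X i + ∑ i, algebraMap A _ (ℓ i) * cc i) + algebraMap A _ a +
      transl c R := by
    simp only [F, map_add, map_sum, map_mul, AlgHom.commutes]
    congr 3
    · rw [← quadT_add]
      simp only [quadT, map_sum, apply_ite (transl c), map_mul, AlgHom.commutes, transl_X hc',
        map_zero, Pi.add_apply, cc]
    · simp only [transl_X hc', mul_add, Finset.sum_add_distrib, cc]
  have hconst : ∀ (x : A) (e : Fin n →₀ ℕ), e ≠ 0 →
      coeff e (algebraMap A (MvPowerSeries (Fin n) A) x) = 0 := fun x e he => by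
    rw [← c_eq_algebraMap, coeff_C, if_neg he]
  have hQc : quadT q cc = algebraMap A _ (quadT q c) := by
    simp only [quadT, map_sum, apply_ite (algebraMap A (MvPowerSeries (Fin n) A)), map_mul, map_zero,
      cc, Algebra.algebraMap_self, RingHom.id_apply]
  have hlc : ∑ i, algebraMap A (MvPowerSeries (Fin n) A) (ℓ i) * cc i = algebraMap A _ (∑ i, ℓ i * c i) := by
    simp [cc, map_sum]
  have hlin : ∀ k, coeff (δ k) (transl c F) = 0 := fun k => by
    have hne : δ k ≠ 0 := Finsupp.single_ne_zero.2 one_ne_zero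
    rw [hτ, hQc, hlc]
    simp only [map_add, map_sum, coeff_quadT_low q (show Finsupp.degree (δ k) ≤ 1 by simp [δ]),
      hconst _ _ hne, zero_add, add_zero]
    simp only [gradT, cc, Finset.mul_sum, ← mul_assoc, ← map_mul, map_sum, ← c_eq_algebraMap,
      coeff_C_mul, coeff_X_single, δ, mul_ite, mul_one, mul_zero, Finset.sum_ite_eq',
      Finset.mem_univ, if_true]
    have hc2 : ∀ i, c i = -∑ j, (ℓ j + r c j) * Mi j i := fun i => (congrFun hfix i).symm
    have hMM : Mi * VanCyc.polarMatrix q = 1 := Matrix.nonsing_inv_mul _ hq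
    have : ∑ i, c i * VanCyc.polarMatrix q i k = -(ℓ k + r c k) := by
      simp_rw [hc2, neg_mul, Finset.sum_neg_distrib, Finset.sum_mul]
      rw [Finset.sum_comm]
      congr 1
      simp_rw [mul_assoc, ← Finset.mul_sum, ← Matrix.mul_apply, hMM, Matrix.one_apply, mul_ite,
        mul_one, mul_zero, Finset.sum_ite_eq', Finset.mem_univ, if_true]
    rw [this]
    ring_nf
    simp [r, δ]
  have hlin1 : ∀ i, c i ∈ (adicFilt 𝔪).I 1 := hc
  let a' := constantCoeff (transl c F)
  let q' : Fin n → Fin n → A := fun i j => if i ≤ j then coeff (δ i + δ j) (transl c F) else q i j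
  have hFm : F ∈ Φ.I 1 := by
    refine add_mem (add_mem (add_mem ?_ ?_) ?_) ?_
    · exact Φ.anti (by omega) (quadT_mem Φ q fun i => X_mem_mix i)
    · exact Submodule.sum_mem _ fun i _ => Φ.mul_left _ (X_mem_mix i)
    · exact algebraMap_mem_mix (by simpa using ha)
    · exact fun e => by
        rcases Nat.lt_or_ge (Finsupp.degree e) 3 with h | h
        · rw [hR e h]; exact zero_mem _
        · rw [Nat.sub_eq_zero_of_le (by omega), pow_zero, Ideal.one_eq_top]; exact Submodule.mem_top
  have ha' : a' ∈ 𝔪 := by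
    have h1 : transl c F ∈ Φ.I 1 := by
      simp only [F, map_add, map_sum, map_mul, AlgHom.commutes]
      refine add_mem (add_mem (add_mem ?_ ?_) ?_) ?_
      · rw [quadT, map_sum]
        refine Submodule.sum_mem _ fun i _ => ?_
        rw [map_sum]
        refine Submodule.sum_mem _ fun j _ => ?_
        split_ifs
        · rw [map_mul]
          exact Φ.mul_left _ (transl_X_mem hc' j)
        · simp
      · exact Submodule.sum_mem _ fun i _ => Φ.mul_left _ (transl_X_mem hc' i)
      · exact algebraMap_mem_mix (by simpa using ha)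
      · exact Φ.anti (by omega) (hτR hc')
    have := h1 0
    rw [coeff_zero_eq_constantCoeff_apply] at this
    simpa using this
  have hq' : VanCyc.QuadNondeg q' := by
    have hres : ∀ i j, IsLocalRing.residue A (q' i j) = IsLocalRing.residue A (q i j) := fun i j => by
      simp only [q']
      split_ifs with h
      · rw [hτ, hQc, hlc]
        have hne : δ i + δ j ≠ 0 := fun h0 => by
          have := congrArg Finsupp.degree h0
          simp [δ] at this
        have hl : ∀ (x : A) k, coeff (δ i + δ j) (algebraMap A (MvPowerSeries (Fin n) A) x * X k) = 0 := by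
          intro x k
          rw [← c_eq_algebraMap, coeff_C_mul, coeff_X, if_neg, mul_zero]
          intro h0
          have := congrArg Finsupp.degree h0
          simp [δ] at this
        simp only [map_add, map_sum, coeff_quadT q h, hconst _ _ hne, gradT, cc, Finset.mul_sum,
          ← mul_assoc, ← map_mul, hl, Finset.sum_const_zero, add_zero, δ]
        rw [add_eq_left]
        have h2 := hτR hc' (δ i + δ j)
        simp only [δ, map_add, Finsupp.degree_single] at h2
        norm_num at h2
        rw [IsLocalRing.residue_eq_zero_iff, ← h𝔪]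
        exact h2
      · rfl
    have hM : (IsLocalRing.residue A).mapMatrix (VanCyc.polarMatrix q' : Matrix (Fin n) (Fin n) A) =
        (IsLocalRing.residue A).mapMatrix (VanCyc.polarMatrix q) := by
      ext i j
      simp only [RingHom.mapMatrix_apply, Matrix.map_apply, VanCyc.polarMatrix]
      split_ifs <;> simp [map_mul, hres]
    apply isUnit_of_map_unit (IsLocalRing.residue A)
    rw [RingHom.map_det, hM, ← RingHom.map_det]
    exact hq.map _
  have hR' : OrdGE 3 (transl c F - (quadT q' (X : Fin n → MvPowerSeries (Fin n) A) + algebraMap A _ a')) :=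
    ordGE_three hlin q' fun i j h => (if_pos h).symm
  obtain ⟨h, hh, heq⟩ := exists_shift hq' le_rfl a' hR'
  rw [add_sub_cancel] at heq
  obtain ⟨e₂⟩ := nonempty_quotientEquiv hh heq
  refine ⟨a', q', ha', hq', ⟨(Ideal.quotientEquivAlg (Ideal.span {F}) (Ideal.span {transl c F})
    (translEquiv hc') ?_).trans e₂⟩⟩
  rw [Ideal.map_span, Set.image_singleton]
  rfl

end Top

end Groth.Agent.QuadMorse
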